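import Cfsg.Agent.H205.OZ.NR
import Cfsg.Agent.H845.OZ.CongCongr
import Cfsg.Agent.H845.OZ.OmLin

/-!
# S4842: the congruence for `Om (Q.prod Q')` (helper205)
-/

set_option autoImplicit false
set_option linter.unusedSectionVars false

namespace Cfsg.Agent.H205.OZ

open Module QuadraticMap Cfsg Cfsg.Agent.Characters
open Cfsg.Agent.LieClassical.OrthCore Cfsg.Agent.H182.Sign Cfsg.Agent.H93.CJ Cfsg.Agent.H530.OZ
open Cfsg.Agent.H160.QSpin Cfsg.Agent.H160.QDisc Cfsg.Agent.H160.QSplit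

variable {F L P : Type} [Field F] [Fintype F] [Field L] [Finite L] [Algebra F L] [AddCommGroup P] [Module F P] [Finite P]
  {Q : QuadraticForm F L} {Q' : QuadraticForm F P} {p m k r : ℕ} {u lam : L}

namespace Dat

variable (D : Dat p m k r Q Q' u lam)

include D

theorem cong_om [hfr : Fact r.Prime] {a : ℕ}
    (hmem : ∀ v : Om (Q.prod Q'), Commute D.z v → ∀ j : ℕ, orderOf v = p ^ j → v ∈ D.inj.range)
    (hcount : Nat.card {v : Om (Q.prod Q') // Commute D.z v ∧ ∃ j : ℕ, orderOf v = p ^ j} = p ^ (2 * a * k ^ 2))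
    (hlin : 1 ≤ k → ∀ (d : Om (Q.prod Q')) (β : L) (hβ : β ≠ 0) (s₁ : P ≃ₗ[F] P),
      (d : (L × P) ≃ₗ[F] (L × P)) = pr (mulL F β hβ) s₁ → El Q' (-1) s₁ → ∀ f : D.inj.range →* ℂˣ,
      (∀ (w : D.inj.range) (hw : d * w * d⁻¹ ∈ D.inj.range), f ⟨d * w * d⁻¹, hw⟩ = f w) → ∀ w, f w = 1)
    (hsep : ∀ (R : Sylow r (Om (Q.prod Q'))), D.z ∈ (R : Subgroup (Om (Q.prod Q'))) →
      Subgroup.centralizer ({D.z} : Set (Om (Q.prod Q'))) ≤
        Subgroup.centralizer ((R : Subgroup (Om (Q.prod Q'))) : Set _) →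
      (∀ (d : Om (Q.prod Q')) (β : L) (hβ : β ≠ 0) (s₁ : P ≃ₗ[F] P),
      (d : (L × P) ≃ₗ[F] (L × P)) = pr (mulL F β hβ) s₁ →
      ((∃ t ∈ Subgroup.centralizer ((R : Subgroup (Om (Q.prod Q'))) : Set _), ¬ r ∣ orderOf t ∧ t ∈ Dat.lo Q Q' ∧
        (∀ x ∈ D.inj.range, t * x = x * t) ∧ t * d = d * t ∧
          ∀ c ∈ Subgroup.centralizer ((R : Subgroup (Om (Q.prod Q'))) : Set _),
          ∀ x ∈ Subgroup.centralizer ((R : Subgroup (Om (Q.prod Q'))) : Set _), c * x * c⁻¹ ≠ t * x) ∨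
        ∃ y' ∈ (R : Subgroup (Om (Q.prod Q'))), Subgroup.centralizer ({y'} : Set (Om (Q.prod Q'))) ≤
          Subgroup.centralizer ((R : Subgroup (Om (Q.prod Q'))) : Set _) ∧ ¬ IsConj D.z y') ∧
      (Nat.card (Subgroup.centralizer ({D.z} : Set (Om (Q.prod Q')))) ≠ r ∨
        ∃ i : ℕ, ¬ r ∣ i ∧ ¬ IsConj D.z (D.z ^ i)))) :
    H730.OZ.Cong p r (2 * a * k ^ 2) (Om (Q.prod Q')) := by
  have := finite_om (Q.prod Q')
  obtain ⟨R, hcyc, hzR, hC, hord⟩ := D.exists_sylow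
  have hab : (R : Subgroup (Om (Q.prod Q'))) ≤ Subgroup.centralizer ((R : Subgroup (Om (Q.prod Q'))) : Set _) := by
    intro x hx
    rw [Subgroup.mem_centralizer_iff]
    intro y hy
    have : IsMulCommutative (R : Subgroup (Om (Q.prod Q'))) := IsCyclic.isMulCommutative
    have h3 := mul_comm' (⟨y, hy⟩ : (R : Subgroup (Om (Q.prod Q')))) ⟨x, hx⟩
    exact congrArg Subtype.val h3
  have hCR : ∀ {l : Om (Q.prod Q')}, l ∈ Subgroup.centralizer ((R : Subgroup (Om (Q.prod Q'))) : Set _) →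
      Commute D.z l := fun {l} hl => Subgroup.mem_centralizer_iff.1 hl _ hzR
  have hRC : ∀ {l : Om (Q.prod Q')}, Commute D.z l →
      l ∈ Subgroup.centralizer ((R : Subgroup (Om (Q.prod Q'))) : Set _) := fun {l} hl =>
    hC (Subgroup.mem_centralizer_singleton_iff.2 hl.eq.symm)
  have h4 : (Nat.card (Subgroup.centralizer ({D.z} : Set (Om (Q.prod Q')))) ≠ r ∨
      ∃ i : ℕ, ¬ r ∣ i ∧ ¬ IsConj D.z (D.z ^ i)) := by
    refine (hsep R hzR hC 1 1 one_ne_zero 1 ?_).2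
    rw [mulL_one]
    rfl
  refine cong_two D.pp D.r_ne_p R hcyc D.order_z hzR hC ?_ h4 hcount
  rintro χ hO v hv ⟨j, hj⟩
  rcases Nat.eq_zero_or_pos k with hk | hk
  · have h1 : Nat.card {v : Om (Q.prod Q') // Commute D.z v ∧ ∃ j : ℕ, orderOf v = p ^ j} = 1 := by
      rw [hcount, hk]
      simp
    obtain ⟨h2, -⟩ := Nat.card_eq_one_iff_unique.1 h1
    have h3 : (⟨v, hv, j, hj⟩ : {v : Om (Q.prod Q') // Commute D.z v ∧ ∃ j : ℕ, orderOf v = p ^ j}) =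
        ⟨1, Commute.one_right _, 0, by rw [orderOf_one, pow_zero]⟩ := Subsingleton.elim _ _
    have h5 : v = 1 := congrArg Subtype.val h3
    rw [h5, mul_one]
  · obtain ⟨s₀, hs₀⟩ := Cfsg.Agent.H845.OZ.exists_neg D.two D.nd hk D.dimP
    obtain ⟨d, β, hβ, s₁, hd, hs₁, hdr⟩ := D.exists_d hs₀
    have hNR : ∀ n : Om (Q.prod Q'), n ∈ Subgroup.normalizer ((R : Subgroup (Om (Q.prod Q'))) : Set _) →
        ∃ (t : L ≃ₗ[F] L) (s : P ≃ₗ[F] P), (n : (L × P) ≃ₗ[F] (L × P)) = pr t s ∧ t ∈ O Q ∧ s ∈ O Q' :=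
      fun n hn => D.norm_blk_of_mem R hzR hcyc hord hn
    refine const_two R hab hzR hC D.inj.range (fun w hw => hRC (D.comm_K hw)) D.not_dvd_K (lo Q Q') D.h0
      (d := d) (hRC (D.comm_of_blk hd)) hdr (D.hdL hd hs₁) ?_ (fun l hl => D.hL hd hs₁ (hCR hl)) ?_
      (hlin hk d β hβ s₁ hd hs₁) (hsep R hzR hC d β hβ s₁ hd).1 χ hO v (hmem v hv j hj)
    · intro n hn
      obtain ⟨t, s, hts, -, hs⟩ := hNR n hn
      exact D.hdK hd hs₁ hts hs
    · intro n hn w hw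
      obtain ⟨t, s, hts, -, hs⟩ := hNR n hn
      exact D.hKN hts hs hw

end Dat

end Cfsg.Agent.H205.OZ
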