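import Cfsg.Agent.H279.OZ.KOne
import Cfsg.Agent.H732.VZ.Bridge

/-!
# S4842: congruences from a cyclic Sylow subgroup `R`, `C_G(R)` inducing outer automorphisms on `K` (helper205)

* `sylow_facts` : `z` of order `r`, `C_G(z)` has a homomorphism to the units of a field, injective on the `r`-elements;
* `const_two` : constancy on `z K` of a character with one class of zeros;
* `cong_two` : the congruence.
-/

set_option autoImplicit false

open Cfsg Cfsg.Agent.Characters Cfsg.Agent.H695.OneZero Cfsg.Agent.H279.OZ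

namespace Cfsg.Agent.H205.OZ

universe u

theorem sylow_facts {G : Type*} [Group G] [Finite G] {r : ℕ} [hfr : Fact r.Prime] {z : G} (hz : orderOf z = r)
    {L : Type*} [Field L] (τ : Subgroup.centralizer ({z} : Set G) →* Lˣ)
    (hτ : ∀ x : Subgroup.centralizer ({z} : Set G), (∃ j : ℕ, x ^ (r ^ j) = 1) → τ x = 1 → x = 1)
    (hcomm : ∀ x y : Subgroup.centralizer ({z} : Set G), (∃ j : ℕ, x ^ (r ^ j) = 1) → Commute x y) :
    ∃ R : Sylow r G, IsCyclic (R : Subgroup G) ∧ z ∈ (R : Subgroup G) ∧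
      Subgroup.centralizer ({z} : Set G) ≤ Subgroup.centralizer ((R : Subgroup G) : Set G) ∧
      ∀ x, Commute z x → x ^ r = 1 → x ∈ Subgroup.zpowers z := by
  classical
  have hr : r.Prime := hfr.1
  have hmem : ∀ {x : G}, x ∈ Subgroup.centralizer ({z} : Set G) ↔ Commute z x := by
    intro x
    rw [Subgroup.mem_centralizer_singleton_iff]
    exact ⟨fun h => h.symm, fun h => h.symm⟩
  have hzz : z ∈ Subgroup.centralizer ({z} : Set G) := hmem.2 (Commute.refl z)
  -- elements of order dividing `r` in the centralizer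
  have hord : ∀ x : G, Commute z x → x ^ r = 1 → x ∈ Subgroup.zpowers z := by
    intro x hx hxr
    set x' : Subgroup.centralizer ({z} : Set G) := ⟨x, hmem.2 hx⟩ with hx'
    set z' : Subgroup.centralizer ({z} : Set G) := ⟨z, hzz⟩ with hz'
    have hz'o : orderOf (τ z') = r := by
      rcases (Nat.dvd_prime hr).1 (orderOf_dvd_of_pow_eq_one (x := τ z') (n := r) (by
        rw [← map_pow]
        have : z' ^ r = 1 := Subtype.ext (by
          show z ^ r = 1
          rw [← hz, pow_orderOf_eq_one])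
        rw [this, map_one])) with h | h
      · exfalso
        have h1 := hτ z' ⟨1, Subtype.ext (by
          show z ^ (r ^ 1) = 1
          rw [pow_one, ← hz, pow_orderOf_eq_one])⟩ (orderOf_eq_one_iff.1 h)
        have h2 : z = 1 := congrArg Subtype.val h1
        rw [h2, orderOf_one] at hz
        exact hr.one_lt.ne hz
      · exact h
    have hprim : IsPrimitiveRoot (τ z' : L) r := by
      rw [← hz'o, ← orderOf_units]
      exact IsPrimitiveRoot.orderOf _
    have hxr' : ((τ x' : Lˣ) : L) ^ r = 1 := by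
      rw [← Units.val_pow_eq_pow_val, ← map_pow]
      have : x' ^ r = 1 := Subtype.ext hxr
      rw [this, map_one, Units.val_one]
    have : NeZero r := ⟨hr.ne_zero⟩
    obtain ⟨i, hi, hi2⟩ := hprim.eq_pow_of_pow_eq_one hxr'
    have h3 : τ (x' * (z' ^ i)⁻¹) = 1 := by
      rw [map_mul, map_inv, map_pow]
      have : τ z' ^ i = τ x' := Units.ext (by rw [Units.val_pow_eq_pow_val]; exact hi2)
      rw [this, mul_inv_cancel]
    have hcx : Commute x' z' := Subtype.ext hx.symm.eq
    have h4 := hτ (x' * (z' ^ i)⁻¹) ⟨1, by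
      have h5 : Commute x' (z' ^ i)⁻¹ := (hcx.pow_right i).inv_right
      rw [pow_one, h5.mul_pow, inv_pow, ← pow_mul, mul_comm i r, pow_mul]
      have h6 : x' ^ r = 1 := Subtype.ext hxr
      have h7 : z' ^ r = 1 := Subtype.ext (by
        show z ^ r = 1
        rw [← hz, pow_orderOf_eq_one])
      rw [h6, h7, one_pow, inv_one, mul_one]⟩ h3
    have h5 : x' = z' ^ i := mul_inv_eq_one.1 h4
    have h6 : x = z ^ i := congrArg Subtype.val h5
    rw [h6]
    exact Subgroup.npow_mem_zpowers z i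
  -- the Sylow subgroup
  have hzP : IsPGroup r (Subgroup.zpowers z) := IsPGroup.of_card (n := 1) (by rw [Nat.card_zpowers, hz, pow_one])
  obtain ⟨R, hR⟩ := hzP.exists_le_sylow
  have hzR : z ∈ (R : Subgroup G) := hR (Subgroup.mem_zpowers z)
  have hz1 : z ≠ 1 := by
    rintro rfl
    rw [orderOf_one] at hz
    exact hr.one_lt.ne hz
  have hRC : (R : Subgroup G) ≤ Subgroup.centralizer ({z} : Set G) := by
    have hnt : Nontrivial (R : Subgroup G) := ⟨⟨⟨z, hzR⟩, 1, fun h => hz1 (congrArg Subtype.val h)⟩⟩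
    have hcnt := R.2.center_nontrivial
    obtain ⟨y, hy⟩ := exists_ne (1 : Subgroup.center (R : Subgroup G))
    -- an element of order `r` in the centre
    have hyo : ∃ j : ℕ, orderOf (y : (R : Subgroup G)) = r ^ (j + 1) := by
      obtain ⟨j, hj⟩ := (IsPGroup.iff_orderOf.1 R.2) (y : (R : Subgroup G))
      rcases j with _ | j
      · exfalso
        rw [pow_zero] at hj
        exact hy (Subtype.ext (orderOf_eq_one_iff.1 hj))
      · exact ⟨j, hj⟩
    obtain ⟨j, hj⟩ := hyo
    set w : (R : Subgroup G) := (y : (R : Subgroup G)) ^ (r ^ j) with hw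
    have hwo : orderOf w = r := by
      rw [hw, orderOf_pow_of_dvd (pow_pos hr.pos j).ne' (by rw [hj]; exact pow_dvd_pow r (Nat.le_succ j)), hj,
        Nat.pow_div (Nat.le_succ j) hr.pos]
      simp
    have hwc : w ∈ Subgroup.center (R : Subgroup G) := Subgroup.pow_mem _ y.2 _
    have hwc' : ∀ t : (R : Subgroup G), t * w = w * t := fun t => (Subgroup.mem_center_iff.1 hwc t)
    have hwz : Commute z (w : G) := by
      have := congrArg Subtype.val (hwc' ⟨z, hzR⟩)
      exact this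
    have hw1 : (w : G) ∈ Subgroup.zpowers z := by
      refine hord _ hwz ?_
      have : w ^ r = 1 := orderOf_dvd_iff_pow_eq_one.1 (dvd_of_eq hwo)
      exact congrArg Subtype.val this
    have hwo' : orderOf (w : G) = r := by rw [Subgroup.orderOf_coe, hwo]
    have hzw : z ∈ Subgroup.zpowers (w : G) := by
      have h1 : Subgroup.zpowers (w : G) ≤ Subgroup.zpowers z := by rwa [Subgroup.zpowers_le]
      have h2 := Subgroup.eq_of_le_of_card_ge h1 (by rw [Nat.card_zpowers, Nat.card_zpowers, hwo', hz])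
      rw [h2]
      exact Subgroup.mem_zpowers z
    intro t ht
    rw [hmem]
    obtain ⟨k, hk⟩ := Subgroup.mem_zpowers_iff.1 hzw
    rw [← hk]
    have h1 : Commute (w : G) t := (congrArg Subtype.val (hwc' ⟨t, ht⟩)).symm
    exact h1.zpow_left k
  have hRr : ∀ x : Subgroup.centralizer ({z} : Set G), (x : G) ∈ (R : Subgroup G) → ∃ j : ℕ, x ^ (r ^ j) = 1 := by
    intro x hx
    obtain ⟨j, hj⟩ := R.2 ⟨x, hx⟩
    have h1 : (x : G) ^ (r ^ j) = 1 := congrArg Subtype.val hj
    exact ⟨j, Subtype.ext h1⟩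
  refine ⟨R, ?_, hzR, ?_, hord⟩
  · let f : (R : Subgroup G) →* Lˣ := τ.comp (Subgroup.inclusion hRC)
    have hf : Function.Injective f := by
      rw [injective_iff_map_eq_one]
      intro x hx
      have h1 := hτ (Subgroup.inclusion hRC x) (hRr _ x.2) hx
      have h2 : (x : G) = 1 := congrArg Subtype.val h1
      exact Subtype.ext h2
    let g : (R : Subgroup G) →* L := (Units.coeHom L).comp f
    exact isCyclic_of_injective_ringHom g (fun a b hab => hf (Units.ext hab))
  · intro y hy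
    rw [Subgroup.mem_centralizer_iff]
    intro t ht
    have h2 := hcomm ⟨t, hRC ht⟩ ⟨y, hy⟩ (hRr ⟨t, hRC ht⟩ ht)
    exact congrArg Subtype.val h2.eq

variable {G : Type u} [Group G]

/-- **Constancy on `z K`** of a character with one class of zeros. -/
theorem const_two [Finite G] {r : ℕ} [hfr : Fact r.Prime] (R : Sylow r G)
    (hab : (R : Subgroup G) ≤ Subgroup.centralizer ((R : Subgroup G) : Set G)) {z : G}
    (hzR : z ∈ (R : Subgroup G))
    (hC : Subgroup.centralizer ({z} : Set G) ≤ Subgroup.centralizer ((R : Subgroup G) : Set G))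
    (K : Subgroup G) (hKC : K ≤ Subgroup.centralizer ((R : Subgroup G) : Set G))
    (hKr : ¬ r ∣ Nat.card K) (L₀ : Subgroup G)
    (h0 : ∀ l ∈ L₀, ∃ c ∈ K, ∀ k ∈ K, l * k * l⁻¹ = c * k * c⁻¹) {d : G}
    (hd : d ∈ Subgroup.centralizer ((R : Subgroup G) : Set G)) (hdr : ¬ r ∣ orderOf d) (hdL : d ∉ L₀)
    (hdK : ∀ n ∈ Subgroup.normalizer ((R : Subgroup G) : Set G), ∃ c ∈ K,
      (∀ k ∈ K, n * k * n⁻¹ = c * k * c⁻¹) ∨ ∀ k ∈ K, n * k * n⁻¹ = d * (c * k * c⁻¹) * d⁻¹)
    (hL : ∀ l ∈ Subgroup.centralizer ((R : Subgroup G) : Set G), l ∈ L₀ ∨ ∃ m ∈ L₀, l = d * m)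
    (hKN : ∀ n ∈ Subgroup.normalizer ((R : Subgroup G) : Set G), ∀ k ∈ K, n * k * n⁻¹ ∈ K)
    (hlin : ∀ f : K →* ℂˣ, (∀ (k : K) (hk : d * k * d⁻¹ ∈ K), f ⟨d * k * d⁻¹, hk⟩ = f k) → ∀ k, f k = 1)
    (hsep : (∃ t ∈ Subgroup.centralizer ((R : Subgroup G) : Set G), ¬ r ∣ orderOf t ∧ t ∈ L₀ ∧
        (∀ x ∈ K, t * x = x * t) ∧ t * d = d * t ∧
        ∀ c ∈ Subgroup.centralizer ((R : Subgroup G) : Set G), ∀ x ∈ Subgroup.centralizer ((R : Subgroup G) : Set G),
          c * x * c⁻¹ ≠ t * x) ∨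
      ∃ y' ∈ (R : Subgroup G),
        Subgroup.centralizer ({y'} : Set G) ≤ Subgroup.centralizer ((R : Subgroup G) : Set G) ∧ ¬ IsConj z y')
    (χ : IrrCharacter G) (hO : H730.OZ.OneZero (χ : G → ℂ)) :
    ∀ k ∈ K, (χ : G → ℂ) (z * k) = (χ : G → ℂ) z := by
  classical
  have := Fintype.ofFinite G
  have hcR : ∀ {y c : G}, y ∈ (R : Subgroup G) → c ∈ Subgroup.centralizer ((R : Subgroup G) : Set G) → Commute y c :=
    fun {y c} hy hc => Subgroup.mem_centralizer_iff.1 hc _ hy
  -- two zeros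
  have two : ∀ x ∈ Subgroup.centralizer ((R : Subgroup G) : Set G), ¬ r ∣ orderOf x →
      (∀ y ∈ R, Subgroup.centralizer ({y} : Set G) ≤ Subgroup.centralizer ((R : Subgroup G) : Set G) →
        (χ : G → ℂ) (y * x) = 0) →
      (∀ t ∈ Subgroup.centralizer ((R : Subgroup G) : Set G), ¬ r ∣ orderOf t → t ∈ L₀ →
        (∀ x ∈ K, t * x = x * t) → t * d = d * t → ¬ r ∣ orderOf (t * x) ∧ (χ : G → ℂ) (z * (t * x)) = 0) → False := by
    intro x hx hxr hz1 hz2
    obtain ⟨w, hw0, hw⟩ := hO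
    have e0 := hz1 z hzR hC
    rcases hsep with ⟨t, ht, htr, htL, htK, htd, htc⟩ | ⟨y', hy', hC', hne⟩
    · obtain ⟨htx, e1⟩ := hz2 t ht htr htL htK htd
      obtain ⟨c, hc⟩ := isConj_iff.1 ((hw _ e0).symm.trans (hw _ e1))
      obtain ⟨e2, e3⟩ := conj_parts (rpow_of_mem R hzR) (rpow_of_mem R hzR) hxr htx (hcR hzR hx)
        (hcR hzR (mul_mem ht hx)) hc
      have hcC : c ∈ Subgroup.centralizer ({z} : Set G) := by
        rw [Subgroup.mem_centralizer_singleton_iff]
        rw [mul_inv_eq_iff_eq_mul] at e2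
        exact e2
      exact htc c (hC hcC) x hx e3
    · obtain ⟨c, hc⟩ := isConj_iff.1 ((hw _ e0).symm.trans (hw _ (hz1 y' hy' hC')))
      obtain ⟨e2, -⟩ := conj_parts (rpow_of_mem R hzR) (rpow_of_mem R hy') hxr hxr (hcR hzR hx)
        (hcR hy' hx) hc
      exact hne (isConj_iff.2 ⟨c, e2⟩)
  rcases alt_two R hab K hKC hKr L₀ h0 hd hdK hL hKN χ with ⟨f, hf⟩ | ⟨k₀, hk₀, h⟩ | h
  · -- a linear character
    intro k hk
    by_cases hz0 : (χ : G → ℂ) z = 0
    · have := hf z hzR hC ⟨k, hk⟩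
      rw [hz0, mul_zero] at this
      rw [hz0]
      exact this
    · have h1 : ∀ k, f k = 1 := by
        refine hlin f fun k hk => ?_
        have e1 := hf z hzR hC ⟨d * k * d⁻¹, hk⟩
        have e2 := hf z hzR hC k
        have e3 : z * (d * (k : G) * d⁻¹) = d * (z * k) * d⁻¹ := by
          have := hcR hzR hd
          rw [← mul_assoc, ← mul_assoc, this.eq]
          group
        have e4 : (χ : G → ℂ) (z * (d * (k : G) * d⁻¹)) = (χ : G → ℂ) (z * k) := by
          rw [e3]
          exact Core.isIrr_isClassFunction χ.2 _ _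
        change (χ : G → ℂ) (z * (d * (k : G) * d⁻¹)) = _ at e1
        rw [e4, e2] at e1
        exact Units.ext (mul_right_cancel₀ hz0 e1).symm
      have := hf z hzR hC ⟨k, hk⟩
      rw [h1, Units.val_one, one_mul] at this
      exact this
  · exfalso
    have hkr : ¬ r ∣ orderOf k₀ := not_dvd_orderOf_of_mem hKr hk₀
    refine two k₀ (hKC hk₀) hkr (fun y hy hC' => ?_) fun t ht htr htL htK htd => ?_
    · have := h y hy hC' 1 (one_mem _) (fun x _ => by rw [one_mul, mul_one])
        (by rw [orderOf_one]; exact hfr.1.not_dvd_one)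
      rwa [mul_one] at this
    · refine ⟨not_dvd_orderOf_mul (htK k₀ hk₀) htr hkr, ?_⟩
      rw [← mul_assoc]
      exact h z hzR hC t ht htK htr
  · exfalso
    refine two d hd hdr (fun y hy hC' => h y hy hC' d hd hdL hdr) fun t ht htr htL htK htd => ?_
    have h1 : ¬ r ∣ orderOf (t * d) := not_dvd_orderOf_mul htd htr hdr
    refine ⟨h1, h z hzR hC _ (mul_mem ht hd) (fun h2 => hdL ?_) h1⟩
    exact (L₀.mul_mem_cancel_left htL).1 h2

/-- **The congruence.** -/
theorem cong_two [Finite G] {p r k : ℕ} (hp : p.Prime) [hr : Fact r.Prime] (hrp : r ≠ p) (R : Sylow r G)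
    (hcyc : IsCyclic (R : Subgroup G)) {z : G} (hz : orderOf z = r) (hzR : z ∈ (R : Subgroup G))
    (hC : Subgroup.centralizer ({z} : Set G) ≤ Subgroup.centralizer ((R : Subgroup G) : Set G))
    (hconst : ∀ (χ : IrrCharacter G) (_ : H730.OZ.OneZero (χ : G → ℂ)) (v : G), Commute z v →
      (∃ k, orderOf v = p ^ k) → (χ : G → ℂ) (z * v) = (χ : G → ℂ) z)
    (h4 : Nat.card (Subgroup.centralizer ({z} : Set G)) ≠ r ∨ ∃ m : ℕ, ¬ r ∣ m ∧ ¬ IsConj z (z ^ m))
    (hk : Nat.card {v : G // Commute z v ∧ ∃ k : ℕ, orderOf v = p ^ k} = p ^ k) :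
    H730.OZ.Cong p r k G := by
  refine H732.VZ.cong_of_const hp hr.out hrp hz hk fun χ x hx =>
    ⟨H732.VZ.not_dvd_of_sylow R hcyc hz hzR hC h4 χ x hx, fun v hv hvp => hconst χ ⟨x, hx.zero, hx.uniq⟩ v hv hvp⟩

end Cfsg.Agent.H205.OZ
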