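import Cfsg.Agent.H205.OZ.Blk

/-!
# S4842: the subgroup `K`, the coset of `d`, the normalizer of the Sylow subgroup (helper205)
-/

set_option autoImplicit false
set_option linter.unusedSectionVars false

namespace Cfsg.Agent.H205.OZ

open Module QuadraticMap Cfsg
open Cfsg.Agent.LieClassical.OrthCore Cfsg.Agent.H182.Sign Cfsg.Agent.H93.CJ Cfsg.Agent.H530.OZ
open Cfsg.Agent.H160.QSpin Cfsg.Agent.H160.QDisc Cfsg.Agent.H160.QSplit

section el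

variable {F V : Type*} [Field F] [AddCommGroup V] [Module F V] [Finite V] {Q : QuadraticForm F V}

theorem el_unique {s t : ℤˣ} {g : V ≃ₗ[F] V} (h : El Q s g) (h' : El Q t g) : s = t := by
  obtain ⟨h1, -, h2⟩ := h
  obtain ⟨h3, -, h4⟩ := h'
  rw [← h2, ← h4]

theorem el_inv {s : ℤˣ} {g : V ≃ₗ[F] V} (h : El Q s g) : El Q s g⁻¹ := by
  obtain ⟨h1, h2, h3⟩ := h
  refine ⟨(O Q).inv_mem h1, by rw [map_inv, h2, inv_one], ?_⟩
  have h4 : (⟨g⁻¹, (O Q).inv_mem h1⟩ : O Q) = ⟨g, h1⟩⁻¹ := rfl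
  rw [h4, map_inv, h3, Int.units_inv_eq_self]

theorem el_conj {t : ℤˣ} {g s : V ≃ₗ[F] V} (hs : s ∈ O Q) (hg : El Q t g) : El Q t (s * g * s⁻¹) := by
  obtain ⟨h1, h2, h3⟩ := hg
  refine ⟨(O Q).mul_mem ((O Q).mul_mem hs h1) ((O Q).inv_mem hs), ?_, ?_⟩
  · rw [map_mul, map_mul, map_inv, h2, mul_one, mul_inv_cancel]
  · have h4 : (⟨s * g * s⁻¹, (O Q).mul_mem ((O Q).mul_mem hs h1) ((O Q).inv_mem hs)⟩ : O Q) =
      ⟨s, hs⟩ * ⟨g, h1⟩ * ⟨s, hs⟩⁻¹ := rfl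
    rw [h4, map_mul, map_mul, map_inv, h3, mul_comm (spin Q ⟨s, hs⟩), mul_assoc, mul_inv_cancel, mul_one]

theorem el_or {g : V ≃ₗ[F] V} (hg : g ∈ O Q) (hd : LinearEquiv.det g = 1) : El Q 1 g ∨ El Q (-1) g :=
  (Int.units_eq_one_or (spin Q ⟨g, hg⟩)).imp (fun h => ⟨hg, hd, h⟩) (fun h => ⟨hg, hd, h⟩)

theorem neg_mul_comm' (g : V ≃ₗ[F] V) : LinearEquiv.neg F * g = g * LinearEquiv.neg F :=
  LinearEquiv.ext fun v => (map_neg g v).symm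

theorem neg_mul_neg' : (LinearEquiv.neg F : V ≃ₗ[F] V) * LinearEquiv.neg F = 1 :=
  LinearEquiv.ext fun v => neg_neg v

theorem neg_mem_O : (LinearEquiv.neg F : V ≃ₗ[F] V) ∈ O Q := fun v => QuadraticMap.map_neg Q v

theorem det_neg_odd (ho : Odd (finrank F V)) : LinearEquiv.det (LinearEquiv.neg F : V ≃ₗ[F] V) = -1 := by
  apply Units.ext
  rw [LinearEquiv.coe_det, Units.val_neg, Units.val_one]
  have h1 : ((LinearEquiv.neg F : V ≃ₗ[F] V) : V →ₗ[F] V) = (-1 : F) • LinearMap.id := by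
    ext v
    simp
  rw [h1, LinearMap.det_smul, LinearMap.det_id, mul_one, ho.neg_one_pow]

theorem exists_rep (hQ : Nondeg Q) (ho : Odd (finrank F V)) {s₁ : V ≃ₗ[F] V} (hs₁ : El Q (-1) s₁) {s : V ≃ₗ[F] V}
    (hs : s ∈ O Q) : ∃ c : V ≃ₗ[F] V, El Q 1 c ∧
      ((∀ k : V ≃ₗ[F] V, s * k * s⁻¹ = c * k * c⁻¹) ∨ ∀ k : V ≃ₗ[F] V, s * k * s⁻¹ = s₁ * (c * k * c⁻¹) * s₁⁻¹) := by
  have : Module.Finite F V := Module.Finite.of_finite
  obtain ⟨s', hs', hd, hc⟩ : ∃ s' ∈ O Q, LinearEquiv.det s' = 1 ∧ ∀ k : V ≃ₗ[F] V, s * k * s⁻¹ = s' * k * s'⁻¹ := by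
    have h1 := det_sq hQ hs
    have h2 : (LinearEquiv.det s : F) * (LinearEquiv.det s : F) = 1 := by
      rw [← Units.val_mul, ← pow_two, h1, Units.val_one]
    rcases mul_self_eq_one_iff.1 h2 with h3 | h3
    · exact ⟨s, hs, Units.ext h3, fun _ => rfl⟩
    · refine ⟨LinearEquiv.neg F * s, (O Q).mul_mem neg_mem_O hs, ?_, fun k => ?_⟩
      · rw [map_mul, det_neg_odd ho]
        apply Units.ext
        rw [Units.val_mul, h3, Units.val_neg, Units.val_one, neg_mul_neg, mul_one]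
      · have h4 : (LinearEquiv.neg F : V ≃ₗ[F] V)⁻¹ = LinearEquiv.neg F := inv_eq_of_mul_eq_one_left neg_mul_neg'
        rw [mul_inv_rev, h4]
        calc s * k * s⁻¹ = s * k * s⁻¹ * (LinearEquiv.neg F * LinearEquiv.neg F) := by rw [neg_mul_neg', mul_one]
          _ = (s * k * s⁻¹ * LinearEquiv.neg F) * LinearEquiv.neg F := by rw [mul_assoc _ _ (LinearEquiv.neg F)]
          _ = LinearEquiv.neg F * (s * k * s⁻¹) * LinearEquiv.neg F := by rw [neg_mul_comm' (s * k * s⁻¹)]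
          _ = LinearEquiv.neg F * s * k * (s⁻¹ * LinearEquiv.neg F) := by simp only [mul_assoc]
  rcases el_or hs' hd with h | h
  · exact ⟨s', h, Or.inl hc⟩
  · refine ⟨s₁⁻¹ * s', ?_, Or.inr fun k => ?_⟩
    · have := (el_inv hs₁).mul h
      rwa [neg_mul_neg, mul_one] at this
    · rw [hc]
      group

end el

variable {F L P : Type} [Field F] [Fintype F] [Field L] [Finite L] [Algebra F L] [AddCommGroup P] [Module F P] [Finite P]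
  {Q : QuadraticForm F L} {Q' : QuadraticForm F P} {p m k r : ℕ} {u lam : L}

namespace Dat

variable (D : Dat p m k r Q Q' u lam)

include D

/-- the embedding of `Om Q'` -/
def inj : Om Q' →* Om (Q.prod Q') where
  toFun s := ⟨pr 1 (s : P ≃ₗ[F] P), by
    have := D.el_pr (El.one Q) s.2
    rwa [mul_one] at this⟩
  map_one' := rfl
  map_mul' _ _ := rfl

theorem coe_inj (s : Om Q') : (D.inj s : (L × P) ≃ₗ[F] (L × P)) = pr 1 (s : P ≃ₗ[F] P) := rfl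

omit D [Fintype F] in
theorem pr_inj {t t' : L ≃ₗ[F] L} {s s' : P ≃ₗ[F] P} (h : pr t s = pr t' s') : t = t' ∧ s = s' := by
  have h1 := prHom_injective (a₁ := (t, s)) (a₂ := (t', s')) h
  exact ⟨congrArg Prod.fst h1, congrArg Prod.snd h1⟩

omit D [Fintype F] in
theorem pr_inv (t : L ≃ₗ[F] L) (s : P ≃ₗ[F] P) : (pr t s)⁻¹ = pr t⁻¹ s⁻¹ := rfl

theorem inj_injective : Function.Injective D.inj := by
  intro a b hab
  exact Subtype.ext (pr_inj (congrArg Subtype.val hab)).2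

theorem mem_K {x : Om (Q.prod Q')} : x ∈ D.inj.range ↔ ∃ s : P ≃ₗ[F] P, El Q' 1 s ∧
    (x : (L × P) ≃ₗ[F] (L × P)) = pr 1 s := by
  constructor
  · rintro ⟨s, rfl⟩
    exact ⟨s, s.2, rfl⟩
  · rintro ⟨s, hs, h⟩
    exact ⟨⟨s, hs⟩, Subtype.ext h.symm⟩

theorem not_dvd_K [hf : Fact r.Prime] : ¬ r ∣ Nat.card D.inj.range := by
  intro h
  have := finite_om (Q.prod Q')
  obtain ⟨x, hx⟩ := exists_prime_orderOf_dvd_card' r h
  obtain ⟨s, hs, h1⟩ := D.mem_K.1 x.2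
  have h2 : (x : Om (Q.prod Q')) ^ r = 1 := by
    have := pow_orderOf_eq_one x
    rw [hx] at this
    exact congrArg Subtype.val this
  have h3 : pr (1 : L ≃ₗ[F] L) s ^ r = 1 := by
    rw [← h1]
    exact congrArg Subtype.val h2
  rw [pr_pow, one_pow] at h3
  have h4 := D.hrP s hs.1 1 (by rw [pow_one]; exact (pr_inj (h3.trans pr_one.symm)).2)
  have h5 : x = 1 := Subtype.ext (Subtype.ext (by rw [h1, h4]; rfl))
  rw [h5, orderOf_one] at hx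
  exact D.hr.one_lt.ne hx

omit D in
/-- the second subgroup -/
def lo (Q : QuadraticForm F L) (Q' : QuadraticForm F P) : Subgroup (Om (Q.prod Q')) where
  carrier := {x | ∃ (t : L ≃ₗ[F] L) (s : P ≃ₗ[F] P), El Q' 1 s ∧ (x : (L × P) ≃ₗ[F] (L × P)) = pr t s}
  one_mem' := ⟨1, 1, El.one Q', rfl⟩
  mul_mem' := by
    rintro x y ⟨t, s, hs, hx⟩ ⟨t', s', hs', hy⟩
    refine ⟨t * t', s * s', ?_, ?_⟩
    · have := hs.mul hs'
      rwa [mul_one] at this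
    · rw [Subgroup.coe_mul, hx, hy, pr_mul]
  inv_mem' := by
    rintro x ⟨t, s, hs, hx⟩
    exact ⟨t⁻¹, s⁻¹, el_inv hs, by rw [Subgroup.coe_inv, hx, pr_inv]⟩

omit D in
theorem mem_lo {x : Om (Q.prod Q')} : x ∈ lo Q Q' ↔ ∃ (t : L ≃ₗ[F] L) (s : P ≃ₗ[F] P), El Q' 1 s ∧
    (x : (L × P) ≃ₗ[F] (L × P)) = pr t s := Iff.rfl

theorem conj_K {n x : Om (Q.prod Q')} {t : L ≃ₗ[F] L} {s w : P ≃ₗ[F] P} (hn : (n : (L × P) ≃ₗ[F] (L × P)) = pr t s)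
    (hx : (x : (L × P) ≃ₗ[F] (L × P)) = pr 1 w) :
    ((n * x * n⁻¹ : Om (Q.prod Q')) : (L × P) ≃ₗ[F] (L × P)) = pr 1 (s * w * s⁻¹) := by
  rw [Subgroup.coe_mul, Subgroup.coe_mul, Subgroup.coe_inv, hn, hx, pr_inv, ← pr_mul, ← pr_mul, mul_one, mul_inv_cancel]

theorem h0 : ∀ l ∈ lo Q Q', ∃ c ∈ D.inj.range, ∀ w ∈ D.inj.range, l * w * l⁻¹ = c * w * c⁻¹ := by
  rintro l ⟨t, s, hs, hl⟩
  refine ⟨D.inj ⟨s, hs⟩, ⟨_, rfl⟩, fun w hw => ?_⟩
  obtain ⟨v, hv, hw'⟩ := D.mem_K.1 hw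
  apply Subtype.ext
  rw [D.conj_K hl hw', D.conj_K (D.coe_inj ⟨s, hs⟩) hw']

/-- the element `d` -/
theorem exists_d {s₀ : P ≃ₗ[F] P} (hs₀ : El Q' (-1) s₀) : ∃ (d : Om (Q.prod Q')) (β : L) (hβ : β ≠ 0) (s₁ : P ≃ₗ[F] P),
    (d : (L × P) ≃ₗ[F] (L × P)) = pr (mulL F β hβ) s₁ ∧ El Q' (-1) s₁ ∧ ¬ r ∣ orderOf d := by
  have := finite_om (Q.prod Q')
  have h1 : El (Q.prod Q') 1 (pr (mulL F u D.u0) s₀) := by
    have := D.el_pr (el_u D.two D.hm D.sg D.u0 D.hu D.huQ) hs₀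
    rwa [neg_mul_neg, mul_one] at this
  set d₁ : Om (Q.prod Q') := ⟨pr (mulL F u D.u0) s₀, h1⟩ with hd₁
  have ho : 0 < orderOf d₁ := orderOf_pos d₁
  obtain ⟨j, o', ho', hfac⟩ := Nat.exists_eq_pow_mul_and_not_dvd ho.ne' r D.hr.ne_one
  have hodd : Odd (r ^ j) := D.r_odd.pow
  refine ⟨d₁ ^ (r ^ j), u ^ (r ^ j), pow_ne_zero _ D.u0, s₀ ^ (r ^ j), ?_, ?_, ?_⟩
  · rw [Subgroup.coe_pow]
    show pr (mulL F u D.u0) s₀ ^ (r ^ j) = _
    rw [pr_pow]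
    congr 1
    exact LinearEquiv.ext fun v => mulL_pow D.u0 _ v
  · have := hs₀.pow (r ^ j)
    rwa [hodd.neg_one_pow] at this
  · rw [orderOf_pow_of_dvd (pow_pos D.hr.pos j).ne' (by rw [hfac]; exact dvd_mul_right _ _), hfac,
      Nat.mul_div_cancel_left _ (pow_pos D.hr.pos j)]
    exact ho'

end Dat

end Cfsg.Agent.H205.OZ
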