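import Cfsg.Agent.H160.QSplit
import Cfsg.Agent.H150.OrthRel
import Cfsg.Agent.S0286
import Cfsg.Agent.H631.Kaw.Main
import Cfsg.Agent.Nodes.WittInst
import Cfsg.Agent.Nodes.RGDClass
import Cfsg.Agent.LieClassical.OrthThreeOmega

/-!
# S4842: the group `Om Q` of the isometries of determinant one and spinor sign one (helper205)

* `nonempty_om` : `PΩ_{2n+1}(F) ≃ Om Q` for every nondegenerate `Q` in dimension `2n + 1`, `n ≥ 1`;
* `card_pomega` : the order of `PΩ_{2n+1}`, `n ≥ 1`;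
* `card_unip` : `q ^ (2 n ^ 2)` elements of `p`-power order, `n = 0, 1, 2`.
-/

set_option autoImplicit false
set_option linter.unusedSectionVars false

namespace Cfsg.Agent.H205.OZ

open Module QuadraticMap Cfsg
open Cfsg.Agent.LieClassical.OrthCore Cfsg.Agent.LieClassical.OrthFinite Cfsg.Agent.LieClassical.OrthForms
open Cfsg.Agent.H160.QSpin Cfsg.Agent.H160.QDisc Cfsg.Agent.H160.QSplit

section Om

variable {F V W : Type*} [Field F] [AddCommGroup V] [Module F V] [Finite V] [AddCommGroup W] [Module F W] [Finite W]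

/-- isometries of determinant one and spinor sign one -/
def Om (Q : QuadraticForm F V) : Subgroup (V ≃ₗ[F] V) where
  carrier := {g | El Q 1 g}
  one_mem' := El.one Q
  mul_mem' := by
    intro a b ha hb
    have := El.mul ha hb
    rwa [mul_one] at this
  inv_mem' := by
    rintro a ⟨h1, h2, h3⟩
    refine ⟨(O Q).inv_mem h1, by rw [map_inv, h2, inv_one], ?_⟩
    have h4 : (⟨a⁻¹, (O Q).inv_mem h1⟩ : O Q) = ⟨a, h1⟩⁻¹ := rfl
    rw [h4, map_inv, h3, inv_one]

theorem mem_Om {Q : QuadraticForm F V} {g : V ≃ₗ[F] V} : g ∈ Om Q ↔ El Q 1 g := Iff.rfl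

/-- transport -/
def omCongr {Q : QuadraticForm F V} {Q' : QuadraticForm F W} {e : V ≃ₗ[F] W} (he : IsIso Q Q' e) :
    Om Q ≃* Om Q' where
  toFun g := ⟨cj e g, El.cj he g.2⟩
  invFun g := ⟨cj e.symm g, El.cj he.symm g.2⟩
  left_inv g := Subtype.ext ((cjEquiv e).symm_apply_apply g)
  right_inv g := Subtype.ext ((cjEquiv e).apply_symm_apply g)
  map_mul' a b := Subtype.ext (cj_mul e a b)

end Om

section Mat

variable {ι : Type} [Fintype ι] [DecidableEq ι] {F : Type*} [Field F] [Finite F]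

theorem nd_bilin {Q : QuadraticForm F (ι → F)} (hQ : Nondeg Q) : (polarBilin Q).Nondegenerate := by
  refine ⟨fun x hx => hQ x hx, fun x hx => hQ x fun y => ?_⟩
  rw [polar_comm]
  exact hx y

theorem mem_omega_iff (h2 : (2 : F) ≠ 0) {Q : QuadraticForm F (ι → F)} (hQ : Nondeg Q) (hd : 2 ≤ Fintype.card ι)
    (g : Cfsg.isometryGroup F ⇑Q) : g ∈ Cfsg.Omega F ⇑Q ↔ El Q 1 (isometryEquiv Q g : (ι → F) ≃ₗ[F] (ι → F)) := by
  rw [Cfsg.Agent.ClassicalGeometry.OmegaIndex.mem_Omega_iff h2 Q (nd_bilin hQ) hd one_ne_zero g]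
  have h3 : LinearEquiv.det (isometryEquiv Q g : (ι → F) ≃ₗ[F] (ι → F)) = 1 ↔
      ((g : Matrix.GeneralLinearGroup ι F) : Matrix ι ι F).det = 1 := by
    rw [← Cfsg.Agent.FooteOrth.det_isometryEquiv, ← Units.val_inj, Units.val_one]
  have h4 : spin Q (isometryEquiv Q g) = Cfsg.Agent.ClassicalGeometry.SpinorSign.spinorSign (⇑Q) 1 g := by
    rw [spin_eq_sg]
    show Cfsg.Agent.ClassicalGeometry.SpinorSign.spinorSign (⇑Q) 1
      ((isometryEquiv Q).symm (isometryEquiv Q g)) = _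
    rw [MulEquiv.symm_apply_apply]
  rw [← h3, ← h4]
  exact ⟨fun h => ⟨(isometryEquiv Q g).2, h.1, h.2⟩, fun ⟨_, h, h'⟩ => ⟨h, h'⟩⟩

/-- `Ω` as a group of linear automorphisms -/
theorem nonempty_omega (h2 : (2 : F) ≠ 0) {Q : QuadraticForm F (ι → F)} (hQ : Nondeg Q) (hd : 2 ≤ Fintype.card ι) :
    Nonempty (Cfsg.Omega F ⇑Q ≃* Om Q) := by
  let f : Cfsg.Omega F ⇑Q →* Om Q :=
    (((O Q).subtype.comp (isometryEquiv Q).toMonoidHom).comp (Cfsg.Omega F ⇑Q).subtype).codRestrict (Om Q)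
      fun g => (mem_omega_iff h2 hQ hd g).1 g.2
  refine ⟨MulEquiv.ofBijective f ⟨?_, ?_⟩⟩
  · intro a b hab
    have h1 := congrArg (fun x : Om Q => (x : (ι → F) ≃ₗ[F] (ι → F))) hab
    change ((isometryEquiv Q a : O Q) : (ι → F) ≃ₗ[F] (ι → F)) = (isometryEquiv Q b : O Q) at h1
    exact Subtype.ext ((isometryEquiv Q).injective (Subtype.ext h1))
  · rintro ⟨g, hg⟩
    obtain ⟨h1, h3, h4⟩ := hg
    obtain ⟨a, ha⟩ := (isometryEquiv Q).surjective ⟨g, h1⟩
    refine ⟨⟨a, (mem_omega_iff h2 hQ hd a).2 ?_⟩, Subtype.ext ?_⟩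
    · rw [ha]
      exact ⟨h1, h3, h4⟩
    · show ((isometryEquiv Q a : O Q) : (ι → F) ≃ₗ[F] (ι → F)) = g
      rw [ha]

end Mat

section Abs

variable {F : Type} [Field F] [Finite F] {V : Type*} [AddCommGroup V] [Module F V] [Finite V]

/-- **`PΩ_{2n+1}`** -/
theorem nonempty_om (h2 : (2 : F) ≠ 0) {Q : QuadraticForm F V} (hQ : Nondeg Q) {n : ℕ} (hn : 1 ≤ n)
    (hd : finrank F V = 2 * n + 1) : Nonempty (POmega F (quadFormOdd n F) ≃* Om Q) := by
  have : Module.Finite F V := Module.Finite.of_finite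
  obtain ⟨Q', e, he⟩ := exists_fin Q hd
  have hQ' : Nondeg Q' := he.nondeg hQ
  obtain ⟨e1⟩ := Cfsg.Agent.Fischer919.OmegaIdent.exists_equiv_quadFormOdd h2 Q' (nd_bilin hQ')
  have hs : ∃ u : Fin (2 * n + 1) → F, u ≠ 0 ∧ Q' u = 0 := by
    obtain ⟨w, -, hw0, hw⟩ := Cfsg.Agent.LieClassical.OrthFinite.exists_sing_mem (Q := Q') ⊤
      (by rw [finrank_top]; simp; omega)
    exact ⟨w, hw0, hw⟩
  have hc : Subgroup.center (Omega F (⇑Q')) = ⊥ :=
    Cfsg.Agent.LieClassical.OrthCenter.center_omega_eq_bot_of_odd h2 (nd_bilin hQ')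
      (by simp; omega) (by simp) hs
  let e3 : (Omega F (⇑Q') ⧸ Subgroup.center (Omega F (⇑Q'))) ≃* Omega F (⇑Q') :=
    (QuotientGroup.quotientMulEquivOfEq hc).trans QuotientGroup.quotientBot
  obtain ⟨e4⟩ := nonempty_omega h2 hQ' (by simp; omega)
  exact ⟨(e1.symm.trans (e3.trans e4)).trans (omCongr he).symm⟩

end Abs

section Orders

variable {F : Type} [Field F] [Fintype F]

theorem two_ne_of_odd {q : ℕ} (hF : Fintype.card F = q) (hodd : Odd q) : (2 : F) ≠ 0 := by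
  intro h
  have h' : (ringChar F) = 2 := by
    have hd : ringChar F ∣ 2 := (ringChar.spec F 2).1 (by exact_mod_cast h)
    rcases (Nat.dvd_prime Nat.prime_two).1 hd with h1 | h1
    · exact absurd h1 (CharP.ringChar_ne_one)
    · exact h1
  have heven := FiniteField.even_card_of_char_two h'
  rw [hF] at heven
  have := Nat.odd_iff.1 hodd
  omega

theorem finrank_odd (F : Type) [Field F] (m : ℕ) : finrank F (Unit ⊕ (Fin m ⊕ Fin m) → F) = 2 * m + 1 := by
  rw [Module.finrank_fintype_fun_eq_card]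
  simp
  ring

theorem card_pomega {q : ℕ} (hF : Fintype.card F = q) (hodd : Odd q) {m : ℕ} (hm : 1 ≤ m) :
    2 * Nat.card (Cfsg.POmega F (Cfsg.quadFormOdd m F)) =
      q ^ (m ^ 2) * ∏ i ∈ Finset.range m, (q ^ (2 * (i + 1)) - 1) := by
  have h2 := two_ne_of_odd hF hodd
  have hQ := nd_bilin (nondeg_oddForm m F h2)
  have hcard : Fintype.card (Unit ⊕ (Fin m ⊕ Fin m)) = 2 * m + 1 := by
    simp
    ring
  have hs : ∃ u : Unit ⊕ (Fin m ⊕ Fin m) → F, u ≠ 0 ∧ oddForm m F u = 0 := by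
    obtain ⟨w, -, hw0, hw⟩ := Cfsg.Agent.LieClassical.OrthFinite.exists_sing_mem (Q := oddForm m F) ⊤
      (by rw [finrank_top, finrank_odd]; omega)
    exact ⟨w, hw0, hw⟩
  have hc := Cfsg.Agent.LieClassical.OrthCenter.card_center_omega_of_odd h2 hQ (by omega)
    (by rw [hcard]; exact ⟨m, rfl⟩) hs
  have hi := Cfsg.Agent.ClassicalGeometry.OmegaIndex.index_Omega h2 (by omega) (oddForm m F) hQ
  have h := Cfsg.Agent.LieClassical.OrthCenter.card_POmega_mul (⇑(oddForm m F))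
  rw [hc, hi, coe_oddForm, Cfsg.Agent.S0286.result hF hodd] at h
  have h3 : 2 * (2 * Nat.card (Cfsg.POmega F (Cfsg.quadFormOdd m F)))
      = 2 * (q ^ (m ^ 2) * ∏ i ∈ Finset.range m, (q ^ (2 * (i + 1)) - 1)) := by
    rw [← mul_assoc 2 (q ^ (m ^ 2)), ← h]
    ring
  exact Nat.eq_of_mul_eq_mul_left (by norm_num) h3

/-- the exponent of `p` in the order -/
theorem factorization_pomega {p a : ℕ} (hp : p.Prime) (ha : 0 < a) (hF : Fintype.card F = p ^ a) (h2 : p ≠ 2) {m : ℕ}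
    (hm : 1 ≤ m) : (Nat.card (Cfsg.POmega F (Cfsg.quadFormOdd m F))).factorization p = a * m ^ 2 := by
  have hodd : Odd (p ^ a) := (hp.odd_of_ne_two h2).pow
  have h := card_pomega hF hodd hm
  have hc : Nat.card (Cfsg.POmega F (Cfsg.quadFormOdd m F)) ≠ 0 := by
    intro h0
    rw [h0, mul_zero] at h
    have h3 : 0 < (p ^ a) ^ (m ^ 2) * ∏ i ∈ Finset.range m, ((p ^ a) ^ (2 * (i + 1)) - 1) := by
      refine Nat.mul_pos (pow_pos (pow_pos hp.pos a) _) (Finset.prod_pos fun i _ => ?_)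
      have : 1 < (p ^ a) ^ (2 * (i + 1)) := Nat.one_lt_pow (by omega) (Nat.one_lt_pow ha.ne' hp.one_lt)
      omega
    omega
  have hw : ¬ p ∣ ∏ i ∈ Finset.range m, ((p ^ a) ^ (2 * (i + 1)) - 1) := by
    rw [Prime.dvd_finsetProd_iff hp.prime]
    rintro ⟨i, -, hi⟩
    have h3 : p ∣ (p ^ a) ^ (2 * (i + 1)) := Dvd.dvd.pow (dvd_pow_self p ha.ne') (by omega)
    have h4 : 1 ≤ (p ^ a) ^ (2 * (i + 1)) := Nat.one_le_pow _ _ (pow_pos hp.pos a)
    have h5 := (Nat.dvd_sub h3 hi)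
    rw [Nat.sub_sub_self h4] at h5
    exact hp.one_lt.ne' (Nat.dvd_one.1 h5)
  have hw0 : ∏ i ∈ Finset.range m, ((p ^ a) ^ (2 * (i + 1)) - 1) ≠ 0 := by
    intro h0
    exact hw (h0 ▸ dvd_zero p)
  have h3 := congrArg (fun N => N.factorization p) h
  beta_reduce at h3
  rw [Nat.factorization_mul two_ne_zero hc, Nat.factorization_mul (pow_ne_zero _ (pow_ne_zero _ hp.ne_zero)) hw0,
    Finsupp.add_apply, Finsupp.add_apply, Nat.factorization_eq_zero_of_not_dvd (n := 2) (fun h =>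
      h2 ((Nat.prime_dvd_prime_iff_eq hp Nat.prime_two).1 h)), zero_add,
    Nat.factorization_eq_zero_of_not_dvd hw, add_zero, ← pow_mul, hp.factorization_pow, Finsupp.single_eq_same] at h3
  exact h3

end Orders

section Count

variable {F : Type} [Field F] [Fintype F] {V : Type} [AddCommGroup V] [Module F V] [Finite V]

theorem ncard_pSet_congr {p : ℕ} {G H : Type*} [Group G] [Group H] (e : G ≃* H) :
    (H730.OZ.pSet p G).ncard = (H730.OZ.pSet p H).ncard := by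
  rw [← Set.ncard_image_of_injective _ e.injective]
  congr 1
  ext h
  constructor
  · rintro ⟨g, ⟨k, hk⟩, rfl⟩
    exact ⟨k, by rw [MulEquiv.orderOf_eq, hk]⟩
  · rintro ⟨k, hk⟩
    exact ⟨e.symm h, ⟨k, by rw [MulEquiv.orderOf_eq, hk]⟩, e.apply_symm_apply h⟩

/-- **The number of elements of `p`-power order** in dimension 3 and 5. -/
theorem card_unip {p a : ℕ} (hp : p.Prime) (ha : 0 < a) (hF : Fintype.card F = p ^ a) (h2 : p ≠ 2) {m : ℕ}
    (hm : 1 ≤ m) {Q : QuadraticForm F V} (hQ : Nondeg Q) (hd : finrank F V = 2 * m + 1) :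
    (H730.OZ.pSet p (Om Q)).ncard = p ^ (2 * a * m ^ 2) := by
  have hodd : Odd (p ^ a) := (hp.odd_of_ne_two h2).pow
  have hch : CharP F p := by
    have hf : Fact p.Prime := ⟨hp⟩
    refine (CharP.charP_iff_prime_eq_zero hp).2 ?_
    have h3 : ((Fintype.card F : ℕ) : F) = 0 := FiniteField.cast_card_eq_zero F
    rw [hF, Nat.cast_pow] at h3
    exact pow_eq_zero_iff ha.ne' |>.1 h3
  have hfp : Fact p.Prime := ⟨hp⟩
  have h20 := two_ne_of_odd hF hodd
  obtain ⟨e⟩ := nonempty_om h20 hQ hm hd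
  have hv := factorization_pomega hp ha hF h2 hm
  rw [← ncard_pSet_congr e, show 2 * a * m ^ 2 = 2 * (a * m ^ 2) by ring, ← hv]
  rcases Nat.lt_or_ge m 2 with h1 | h1
  · obtain rfl : m = 1 := by omega
    obtain ⟨e1⟩ := Cfsg.Agent.LieClassical.OrthThreeOmega.nonempty_equiv (F := F) ⟨-1, by
      simp, by
      intro h
      apply h20
      linear_combination -h⟩ h20
    have h3 := H631.Kaw.card_pSet (Cfsg.Agent.Nodes.RGDClass.hasRGD_PSL (F := F) 1 (p := p))
    rw [ncard_pSet_congr e1, h3, Nat.card_congr e1.toEquiv]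
  · exact H631.Kaw.card_pSet (Cfsg.Agent.Nodes.WittInst.hasRGD_PO_odd h20 h1)

end Count

end Cfsg.Agent.H205.OZ
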