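import Cfsg.Agent.H205.OZ.Fin
import Cfsg.Agent.H845.OZ.OmSep
import Cfsg.Agent.H477.OZ.OmRow
import Cfsg.Agent.H477.OZ.OmCount
import Cfsg.Agent.H530.OZ.OmLinK

/-!
# S4842: the row `Ω_{2n+1}(q)`, `q` odd, `n ≥ 5` (helper205; pieces by helper477, helper530, helper845)
-/

set_option autoImplicit false
set_option linter.unusedSectionVars false

namespace Cfsg.Agent.H205.OZ

open Module QuadraticMap Cfsg Cfsg.Agent.Characters
open Cfsg.Agent.LieClassical.OrthCore Cfsg.Agent.LieClassical.OrthForms Cfsg.Agent.H182.Sign Cfsg.Agent.H93.CJ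
open Cfsg.Agent.H530.OZ
open Cfsg.Agent.H160.QSpin Cfsg.Agent.H160.QDisc Cfsg.Agent.H160.QSplit

universe v

theorem num_big {q m k : ℕ} (hq : 3 ≤ q) (hm : 3 ≤ m) (hk : k ≤ 2) : 2 * (2 * m + 2 * k + 2) < q ^ m + 1 := by
  have h1 : 3 ^ m ≤ q ^ m := Nat.pow_le_pow_left hq m
  have h2 : 4 * m + 15 ≤ 3 ^ m := by
    induction m, hm using Nat.le_induction with
    | base => norm_num
    | succ m hm ih =>
      have := ih (Nat.pow_le_pow_left hq m)
      rw [pow_succ]
      omega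
  omega

/-- **The congruences of `Ω_{2n+1}(q)`**, all `n`. -/
theorem cong_odd_gen {S : Type v} [Group S] {F : Type} [Field F] [Fintype F] {n : ℕ}
    (ho : Odd (Fintype.card F)) (e : S ≃* POmega F (quadFormOdd n F)) {k r p a : ℕ} (hm : 1 ≤ n - k)
    (hkm : k < n - k) (hbig : 2 * (2 * (n - k) + 2 * k + 2) < Fintype.card F ^ (n - k) + 1) (hp : p.Prime) (hr : r.Prime) (ha : 0 < a) (hF : Fintype.card F = p ^ a)
    (hord : orderOf ((p ^ a : ℕ) : ZMod r) = 2 * (n - k)) : H730.OZ.Cong p r (2 * a * k ^ 2) S := by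
  classical
  have hfr : Fact r.Prime := ⟨hr⟩
  have hfp : Fact p.Prime := ⟨hp⟩
  set m := n - k with hmd
  have h2 : (2 : F) ≠ 0 := two_ne_of_odd rfl ho
  have hch : CharP F p := by
    refine (CharP.charP_iff_prime_eq_zero hp).2 ?_
    have h3 : ((Fintype.card F : ℕ) : F) = 0 := FiniteField.cast_card_eq_zero F
    rw [hF, Nat.cast_pow] at h3
    exact pow_eq_zero_iff ha.ne' |>.1 h3
  rw [← hF] at hord
  set q := Fintype.card F with hq
  have hq2 : 2 ≤ q := Fintype.one_lt_card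
  -- arithmetic
  have hne : ∀ i, 0 < i → i < 2 * m → ((q : ℕ) : ZMod r) ^ i ≠ 1 := by
    intro i hi hi2 h
    have h3 := Nat.le_of_dvd hi (orderOf_dvd_of_pow_eq_one h)
    rw [hord] at h3
    omega
  have cond : ∀ i : ℕ, 0 < i → i < 2 * m → ¬ r ∣ q ^ i - 1 := by
    intro i hi hi2 h
    apply hne i hi hi2
    have h3 : ((q ^ i - 1 : ℕ) : ZMod r) = 0 := (ZMod.natCast_eq_zero_iff _ _).2 h
    rw [Nat.cast_sub (Nat.one_le_pow _ _ (by omega)), Nat.cast_pow, Nat.cast_one, sub_eq_zero] at h3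
    exact h3
  have hq0 : ((q : ℕ) : ZMod r) ≠ 0 := by
    intro h
    have h3 := pow_orderOf_eq_one ((q : ℕ) : ZMod r)
    rw [hord, h, zero_pow (by omega)] at h3
    exact zero_ne_one h3
  have hrq : ¬ r ∣ q := fun h => hq0 ((ZMod.natCast_eq_zero_iff _ _).2 h)
  have hdvd : r ∣ q ^ m + 1 := by
    have h3 := pow_orderOf_eq_one ((q : ℕ) : ZMod r)
    rw [hord, mul_comm, pow_mul, pow_two, mul_self_eq_one_iff] at h3
    rcases h3 with h3 | h3
    · exact absurd h3 (hne m (by omega) (by omega))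
    · rw [← ZMod.natCast_eq_zero_iff, Nat.cast_add, Nat.cast_pow, h3, Nat.cast_one, neg_add_cancel]
  obtain ⟨L, _, _, _, Q, u, hQ, hu, huQ⟩ := exists_torusM F (k := m) (by omega)
  obtain ⟨s, hs⟩ := hdvd
  have hlo : orderOf (u ^ s) = r := by
    have hs0 : s ≠ 0 := by
      rintro rfl
      omega
    rw [orderOf_pow_of_dvd hs0 (by rw [hu, hs]; exact dvd_mul_left _ _), hu, hs]
    exact Nat.mul_div_cancel _ (Nat.pos_of_ne_zero hs0)
  have hnd : Nondeg (oddForm k F) := nondeg_oddForm k F h2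
  have hdP : finrank F (Unit ⊕ (Fin k ⊕ Fin k) → F) = 2 * k + 1 := finrank_odd F k
  have D : Dat p m k r Q (oddForm k F) u (u ^ s) :=
    { two := h2, pp := hp, ch := hch, hm := by omega, sg := hQ, nd := hnd, dimP := hdP, hu := hu, huQ := huQ, hr := hr
      hlam := ⟨s, rfl⟩, hlo := hlo, cond := cond
      hrP := Cfsg.Agent.H845.OZ.one_of_rpow hdP hkm hr hrq cond }
  have h3 := D.cong_om (a := a) (fun v hv j hj => H477.OZ.mem_K_of_p D hv hj) (H477.OZ.count D ha hF)
    (fun hk d β hβ s₁ hd hs₁ => H530.OZ.OmK.hlin D hk hd hs₁)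
    (fun R hzR hC d β hβ s₁ hd => H845.OZ.sep D R hzR hC hbig hd)
  have : Module.Finite F L := Module.Finite.of_finite
  obtain ⟨e'⟩ := nonempty_om h2 D.ndM (n := n) (by omega) (by
    rw [Module.finrank_prod, hQ.dim, hdP]
    omega)
  exact H845.OZ.Cong.congr (e.trans e').symm h3

/-- **The congruences of `Ω_{2n+1}(q)`**, `3 ≤ n - k`. -/
theorem cong_odd {S : Type v} [Group S] {F : Type} [Field F] [Fintype F] {n : ℕ}
    (ho : Odd (Fintype.card F)) (e : S ≃* POmega F (quadFormOdd n F)) {k r p a : ℕ} (hk : k ≤ 2) (hm : 3 ≤ n - k)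
    (hkm : k < n - k) (hp : p.Prime) (hr : r.Prime) (ha : 0 < a) (hF : Fintype.card F = p ^ a)
    (hord : orderOf ((p ^ a : ℕ) : ZMod r) = 2 * (n - k)) : H730.OZ.Cong p r (2 * a * k ^ 2) S := by
  have hq2 : 2 ≤ Fintype.card F := Fintype.one_lt_card
  have hq3 : 3 ≤ Fintype.card F := by
    rcases Nat.lt_or_ge 2 (Fintype.card F) with h | h
    · exact h
    · exfalso
      have : Fintype.card F = 2 := le_antisymm h hq2
      rw [this] at ho
      exact absurd ho (by decide)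
  exact cong_odd_gen ho e (by omega) hkm (num_big hq3 hm hk) hp hr ha hF hord

/-- `Ω_7(q)`, `q ≥ 5`: the primes `r ∣ q ^ 2 + 1`. -/
theorem cong_seven {S : Type v} [Group S] {F : Type} [Field F] [Fintype F]
    (ho : Odd (Fintype.card F)) (h5 : 5 ≤ Fintype.card F) (e : S ≃* POmega F (quadFormOdd 3 F)) {r p a : ℕ}
    (hp : p.Prime) (hr : r.Prime) (ha : 0 < a) (hF : Fintype.card F = p ^ a)
    (hord : orderOf ((p ^ a : ℕ) : ZMod r) = 4) : H730.OZ.Cong p r (2 * a) S := by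
  have h1 : 5 ^ 2 ≤ Fintype.card F ^ 2 := Nat.pow_le_pow_left h5 2
  have := cong_odd_gen (n := 3) (k := 1) ho e (by omega) (by omega) (by
    show 2 * (2 * 2 + 2 * 1 + 2) < Fintype.card F ^ 2 + 1
    omega) hp hr ha hF hord
  rwa [one_pow, mul_one] at this

/-- **The row `Ω_{2n+1}(q)`, `q` odd, `n ≥ 5`.** -/
theorem row_omega_odd {S : Type v} [Group S] [Finite S] (hs : IsSimpleGroup S) {F : Type} [Field F] [Fintype F] {n : ℕ}
    (hn : 5 ≤ n) (ho : Odd (Fintype.card F)) (e : S ≃* POmega F (quadFormOdd n F)) : H730.OZ.Row S :=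
  H477.OZ.row_of_cong hs hn ho e fun k r p a hk hp hr ha hF _ hord =>
    cong_odd ho e hk (by omega) (by omega) hp hr ha hF hord

end Cfsg.Agent.H205.OZ
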