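import Cfsg.Agent.H205.OZ.Om
import Cfsg.Agent.H530.OZ.Tori
import Cfsg.Agent.H899.O7.Zass

/-!
# S4842: the spinor sign of the torus of order `q ^ m + 1` (helper205)
-/

set_option autoImplicit false
set_option linter.unusedSectionVars false

namespace Cfsg.Agent.H205.OZ

open Module QuadraticMap Cfsg
open Cfsg.Agent.LieClassical.OrthCore Cfsg.Agent.H182.Sign Cfsg.Agent.H93.CJ Cfsg.Agent.H530.OZ
open Cfsg.Agent.H160.QSpin Cfsg.Agent.H160.QDisc Cfsg.Agent.H160.QSplit

variable {F L : Type} [Field F] [Fintype F] [Field L] [Finite L] [Algebra F L] {Q : QuadraticForm F L} {m : ℕ} {u : L}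

theorem mulL_pow {u : L} (hu : u ≠ 0) (j : ℕ) (v : L) : (mulL F u hu ^ j) v = u ^ j * v := by
  induction j with
  | zero => rw [pow_zero, pow_zero, one_mul]; rfl
  | succ j ih => rw [pow_succ', LinearEquiv.mul_apply, ih, mulL_apply, pow_succ', mul_assoc]

theorem ne_zero_of_order (hu : orderOf u = Fintype.card F ^ m + 1) : u ≠ 0 := by
  rintro rfl
  have h1 := pow_orderOf_eq_one (0 : L)
  rw [hu, pow_succ, mul_zero] at h1
  exact zero_ne_one h1

/-- determinants in even dimension, no fixed vectors -/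
theorem det_one_of_no_fix {V : Type*} [AddCommGroup V] [Module F V] [Finite V] {Q : QuadraticForm F V} (hQ : Nondeg Q)
    (he : Even (finrank F V)) {g : V ≃ₗ[F] V} (hg : g ∈ O Q) (h : ∀ v, g v = v → v = 0) : LinearEquiv.det g = 1 := by
  have : Module.Finite F V := Module.Finite.of_finite
  apply Units.ext
  rw [LinearEquiv.coe_det, Units.val_one]
  have := det_of_no_one hQ hg h
  rw [he.neg_one_pow] at this
  exact this

/-- `1 + u` is not a square -/
theorem norm_not_square (h2 : (2 : F) ≠ 0) (hm : 1 ≤ m) (hd : finrank F L = 2 * m)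
    (hu : orderOf u = Fintype.card F ^ m + 1) : ¬ IsSquare (Algebra.norm F (1 + u)) := by
  classical
  have hfd : Module.Finite F L := Module.Finite.of_finite
  have hchF : ringChar F ≠ 2 := fun h => h2 (by
    have := ringChar.Nat.cast_ringChar (R := F)
    rw [h] at this
    exact_mod_cast this)
  obtain ⟨p, hch⟩ := CharP.exists F
  obtain ⟨⟨a, ha⟩, hp, hcard⟩ := FiniteField.card F p
  simp only [PNat.mk_coe] at hcard
  have hpf : Fact p.Prime := ⟨hp⟩
  have hchL : CharP L p := charP_of_injective_algebraMap (algebraMap F L).injective p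
  have hqodd : Odd (Fintype.card F) := by
    have := FiniteField.odd_card_of_char_ne_two hchF
    exact Nat.odd_iff.2 this
  set q := Fintype.card F with hq
  have hq2 : 2 ≤ q := Fintype.one_lt_card
  have hQodd : Odd (q ^ m) := hqodd.pow
  have hQ1 : 2 ≤ q ^ m := hq2.trans (Nat.le_self_pow (by omega) q)
  obtain ⟨h, hh⟩ : ∃ h, q ^ m + 1 = 2 * h := by
    obtain ⟨j, hj⟩ := hQodd
    exact ⟨j + 1, by omega⟩
  obtain ⟨g, hg⟩ : ∃ g, q - 1 = 2 * g := by
    obtain ⟨j, hj⟩ := hqodd
    exact ⟨j, by omega⟩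
  have hcL : Nat.card L = q ^ (2 * m) := by
    rw [← hd, hq, ← Nat.card_eq_fintype_card]
    exact Module.natCard_eq_pow_finrank (K := F) (V := L)
  have hfac : q ^ (2 * m) - 1 = (q ^ m + 1) * (q ^ m - 1) := by
    rw [mul_comm 2, pow_mul]
    have := Nat.sq_sub_sq (q ^ m) 1
    simpa using this
  obtain ⟨c, hc⟩ : q - 1 ∣ q ^ (2 * m) - 1 := Nat.sub_one_dvd_pow_sub_one q (2 * m)
  have hcg : c * g = (q ^ m - 1) * h := by
    have h3 : 2 * (c * g) = 2 * ((q ^ m - 1) * h) := by
      calc 2 * (c * g) = (q - 1) * c := by rw [hg]; ring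
        _ = (q ^ m + 1) * (q ^ m - 1) := by rw [← hc, hfac]
        _ = 2 * ((q ^ m - 1) * h) := by rw [hh]; ring
    exact Nat.eq_of_mul_eq_mul_left two_pos h3
  have hu0 : u ≠ 0 := ne_zero_of_order (by rw [← hq]; exact hu)
  have hu1 : (1 : L) + u ≠ 0 := by
    intro h0
    have h3 : u = -1 := by linear_combination h0
    have h4 : orderOf u ∣ 2 := orderOf_dvd_of_pow_eq_one (by rw [h3]; ring)
    have := Nat.le_of_dvd two_pos h4
    omega
  -- `(1 + u) ^ (q^m - 1) = u⁻¹`
  have h5 : (1 + u) ^ (q ^ m - 1) = u⁻¹ := by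
    have h6 : (1 + u) ^ (q ^ m) = 1 + u ^ (q ^ m) := by
      rw [hcard, ← pow_mul, add_pow_char_pow, one_pow]
    have h7 : u ^ (q ^ m) = u⁻¹ := by
      apply eq_inv_of_mul_eq_one_left
      rw [← pow_succ, ← hu, pow_orderOf_eq_one]
    have h8 : (1 + u) ^ (q ^ m - 1) * (1 + u) = u⁻¹ * (1 + u) := by
      rw [← pow_succ, Nat.sub_add_cancel (by omega), h6, h7, mul_add, mul_one, inv_mul_cancel₀ hu0, add_comm]
    exact mul_right_cancel₀ hu1 h8
  have hN0 : Algebra.norm F (1 + u) ≠ 0 := by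
    rw [Ne, Algebra.norm_eq_zero_iff]
    exact hu1
  rw [FiniteField.isSquare_iff hchF hN0]
  intro h9
  have h10 : Fintype.card F / 2 = g := by omega
  rw [h10] at h9
  have h11 := congrArg (algebraMap F L) h9
  rw [map_pow, map_one, FiniteField.algebraMap_norm_eq_pow, hcL, Nat.card_eq_fintype_card, ← hq, hc,
    Nat.mul_div_cancel_left _ (by omega), ← pow_mul, hcg, pow_mul, h5, inv_pow, inv_eq_one] at h11
  have h12 := Nat.le_of_dvd (by omega) (orderOf_dvd_of_pow_eq_one h11)
  omega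

/-- **The generator of the torus has determinant one and spinor sign `-1`.** -/
theorem el_u (h2 : (2 : F) ≠ 0) (hm : 1 ≤ m) (hQ : Sg Q m (-1)) (hu0 : u ≠ 0)
    (hu : orderOf u = Fintype.card F ^ m + 1) (huQ : ∀ v, Q (u * v) = Q v) : El Q (-1) (mulL F u hu0) := by
  classical
  have hfd : Module.Finite F L := Module.Finite.of_finite
  have hev : Even (finrank F L) := by rw [hQ.dim]; exact even_two_mul m
  have hq2 : 2 ≤ Fintype.card F := Fintype.one_lt_card
  have hQ1 : 2 ≤ Fintype.card F ^ m := hq2.trans (Nat.le_self_pow (by omega) _)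
  have hmO : mulL F u hu0 ∈ O Q := huQ
  have hdet : LinearEquiv.det (mulL F u hu0) = 1 := by
    refine det_one_of_no_fix hQ.nondeg hev hmO fun v hv => ?_
    rw [mulL_apply] at hv
    by_contra hv0
    have h3 : u = 1 := by
      apply mul_right_cancel₀ hv0
      rw [hv, one_mul]
    rw [h3, orderOf_one] at hu
    omega
  have hlm : (1 : Module.End F L) + en (mulL F u hu0) = Algebra.lmul F L (1 + u) := by
    apply LinearMap.ext
    intro v
    show v + u * v = (1 + u) * v
    ring
  have hns := norm_not_square h2 hm hQ.dim hu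
  have hdet1 : LinearMap.det ((1 : Module.End F L) + en (mulL F u hu0)) = Algebra.norm F (1 + u) := by
    rw [hlm]
    rfl
  have hN0 : Algebra.norm F (1 + u) ≠ 0 := by
    intro h
    apply hns
    rw [h]
    exact IsSquare.zero
  have h3 := Cfsg.Agent.H899.O7.Zass.zass h2 hQ.nondeg hev (finrank F L) hmO hdet (by rw [hdet1]; exact hN0)
    (Nat.le_add_left _ _)
  refine ⟨hmO, hdet, ?_⟩
  rw [hdet1, quadraticChar_neg_one_iff_not_isSquare.2 hns] at h3
  exact Units.ext (by rw [h3]; rfl)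

/-- isometries commuting with the torus element -/
theorem det_of_comm (hQ : Sg Q m (-1)) {r : ℕ} {lam : L} {z : L ≃ₗ[F] L} (hT : TorU Q r z (LinearMap.id : L →ₗ[F] L) lam)
    {t : L ≃ₗ[F] L} (ht : t ∈ O Q) (hc : Commute t z) : LinearEquiv.det t = 1 := by
  obtain ⟨α, -, h1, h3⟩ := hT.cen t ht hc
  by_cases hα : α = 1
  · rw [h1 hα, map_one]
  · exact det_one_of_no_fix hQ.nondeg (by rw [hQ.dim]; exact even_two_mul m) ht (h3 hα)

end Cfsg.Agent.H205.OZ
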